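import Cfsg.Agent.CosetEnum.SuzH.Chain0

set_option autoImplicit false
set_option maxRecDepth 100000
set_option Elab.async false

/-! The coset action of `Cfsg.Spor.Suz` on 1782 cosets. -/

namespace CfsgLib.CosetEnum.SuzH

theorem full : B58 = 2 ^ (enum.n * CfsgLib.CosetEnum.Suz.setup.k) - 1 := by decide +kernel

theorem fix0_0 : allR (fun i => bif Nat.blt i 1782 then Nat.beq (walk tb [0, 0] i) i else true) 11 0 = true := by decide +kernel

theorem fix0 : fixesAll 1782 tb [0, 0] 11 = true :=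
  fix0_0

theorem fix1_0 : allR (fun i => bif Nat.blt i 1782 then Nat.beq (walk tb [0, 1, 0, 1, 0, 1, 0, 1, 0, 1] i) i else true) 11 0 = true := by decide +kernel

theorem fix1 : fixesAll 1782 tb [0, 1, 0, 1, 0, 1, 0, 1, 0, 1] 11 = true :=
  fix1_0

theorem fix2_0 : allR (fun i => bif Nat.blt i 1782 then Nat.beq (walk tb [0, 2, 0, 2] i) i else true) 11 0 = true := by decide +kernel

theorem fix2 : fixesAll 1782 tb [0, 2, 0, 2] 11 = true :=
  fix2_0

theorem fix3_0 : allR (fun i => bif Nat.blt i 1782 then Nat.beq (walk tb [0, 3, 0, 3] i) i else true) 11 0 = true := by decide +kernel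

theorem fix3 : fixesAll 1782 tb [0, 3, 0, 3] 11 = true :=
  fix3_0

theorem fix4_0 : allR (fun i => bif Nat.blt i 1782 then Nat.beq (walk tb [0, 4, 0, 4] i) i else true) 11 0 = true := by decide +kernel

theorem fix4 : fixesAll 1782 tb [0, 4, 0, 4] 11 = true :=
  fix4_0

theorem fix5_0 : allR (fun i => bif Nat.blt i 1782 then Nat.beq (walk tb [0, 5, 0, 5] i) i else true) 11 0 = true := by decide +kernel

theorem fix5 : fixesAll 1782 tb [0, 5, 0, 5] 11 = true :=
  fix5_0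

theorem fix6_0 : allR (fun i => bif Nat.blt i 1782 then Nat.beq (walk tb [0, 6, 0, 6] i) i else true) 11 0 = true := by decide +kernel

theorem fix6 : fixesAll 1782 tb [0, 6, 0, 6] 11 = true :=
  fix6_0

theorem fix7_0 : allR (fun i => bif Nat.blt i 1782 then Nat.beq (walk tb [1, 1] i) i else true) 11 0 = true := by decide +kernel

theorem fix7 : fixesAll 1782 tb [1, 1] 11 = true :=
  fix7_0

theorem fix8_0 : allR (fun i => bif Nat.blt i 1782 then Nat.beq (walk tb [1, 2, 1, 2, 1, 2] i) i else true) 11 0 = true := by decide +kernel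

theorem fix8 : fixesAll 1782 tb [1, 2, 1, 2, 1, 2] 11 = true :=
  fix8_0

theorem fix9_0 : allR (fun i => bif Nat.blt i 1782 then Nat.beq (walk tb [1, 3, 1, 3] i) i else true) 11 0 = true := by decide +kernel

theorem fix9 : fixesAll 1782 tb [1, 3, 1, 3] 11 = true :=
  fix9_0

theorem fix10_0 : allR (fun i => bif Nat.blt i 1782 then Nat.beq (walk tb [1, 4, 1, 4] i) i else true) 11 0 = true := by decide +kernel

theorem fix10 : fixesAll 1782 tb [1, 4, 1, 4] 11 = true :=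
  fix10_0

theorem fix11_0 : allR (fun i => bif Nat.blt i 1782 then Nat.beq (walk tb [1, 5, 1, 5, 1, 5] i) i else true) 11 0 = true := by decide +kernel

theorem fix11 : fixesAll 1782 tb [1, 5, 1, 5, 1, 5] 11 = true :=
  fix11_0

theorem fix12_0 : allR (fun i => bif Nat.blt i 1782 then Nat.beq (walk tb [1, 6, 1, 6, 1, 6] i) i else true) 11 0 = true := by decide +kernel

theorem fix12 : fixesAll 1782 tb [1, 6, 1, 6, 1, 6] 11 = true :=
  fix12_0

theorem fix13_0 : allR (fun i => bif Nat.blt i 1782 then Nat.beq (walk tb [2, 2] i) i else true) 11 0 = true := by decide +kernel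

theorem fix13 : fixesAll 1782 tb [2, 2] 11 = true :=
  fix13_0

theorem fix14_0 : allR (fun i => bif Nat.blt i 1782 then Nat.beq (walk tb [2, 3, 2, 3, 2, 3, 2, 3, 2, 3, 2, 3, 2, 3, 2, 3] i) i else true) 11 0 = true := by decide +kernel

theorem fix14 : fixesAll 1782 tb [2, 3, 2, 3, 2, 3, 2, 3, 2, 3, 2, 3, 2, 3, 2, 3] 11 = true :=
  fix14_0

theorem fix15_0 : allR (fun i => bif Nat.blt i 1782 then Nat.beq (walk tb [2, 4, 2, 4] i) i else true) 11 0 = true := by decide +kernel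

theorem fix15 : fixesAll 1782 tb [2, 4, 2, 4] 11 = true :=
  fix15_0

theorem fix16_0 : allR (fun i => bif Nat.blt i 1782 then Nat.beq (walk tb [2, 5, 2, 5] i) i else true) 11 0 = true := by decide +kernel

theorem fix16 : fixesAll 1782 tb [2, 5, 2, 5] 11 = true :=
  fix16_0

theorem fix17_0 : allR (fun i => bif Nat.blt i 1782 then Nat.beq (walk tb [2, 6, 2, 6] i) i else true) 11 0 = true := by decide +kernel

theorem fix17 : fixesAll 1782 tb [2, 6, 2, 6] 11 = true :=
  fix17_0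

theorem fix18_0 : allR (fun i => bif Nat.blt i 1782 then Nat.beq (walk tb [3, 3] i) i else true) 11 0 = true := by decide +kernel

theorem fix18 : fixesAll 1782 tb [3, 3] 11 = true :=
  fix18_0

theorem fix19_0 : allR (fun i => bif Nat.blt i 1782 then Nat.beq (walk tb [3, 4, 3, 4, 3, 4] i) i else true) 11 0 = true := by decide +kernel

theorem fix19 : fixesAll 1782 tb [3, 4, 3, 4, 3, 4] 11 = true :=
  fix19_0

theorem fix20_0 : allR (fun i => bif Nat.blt i 1782 then Nat.beq (walk tb [3, 5, 3, 5] i) i else true) 11 0 = true := by decide +kernel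

theorem fix20 : fixesAll 1782 tb [3, 5, 3, 5] 11 = true :=
  fix20_0

theorem fix21_0 : allR (fun i => bif Nat.blt i 1782 then Nat.beq (walk tb [3, 6, 3, 6] i) i else true) 11 0 = true := by decide +kernel

theorem fix21 : fixesAll 1782 tb [3, 6, 3, 6] 11 = true :=
  fix21_0

theorem fix22_0 : allR (fun i => bif Nat.blt i 1782 then Nat.beq (walk tb [4, 4] i) i else true) 11 0 = true := by decide +kernel

theorem fix22 : fixesAll 1782 tb [4, 4] 11 = true :=
  fix22_0

theorem fix23_0 : allR (fun i => bif Nat.blt i 1782 then Nat.beq (walk tb [4, 5, 4, 5] i) i else true) 11 0 = true := by decide +kernel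

theorem fix23 : fixesAll 1782 tb [4, 5, 4, 5] 11 = true :=
  fix23_0

theorem fix24_0 : allR (fun i => bif Nat.blt i 1782 then Nat.beq (walk tb [4, 6, 4, 6] i) i else true) 11 0 = true := by decide +kernel

theorem fix24 : fixesAll 1782 tb [4, 6, 4, 6] 11 = true :=
  fix24_0

theorem fix25_0 : allR (fun i => bif Nat.blt i 1782 then Nat.beq (walk tb [5, 5] i) i else true) 11 0 = true := by decide +kernel

theorem fix25 : fixesAll 1782 tb [5, 5] 11 = true :=
  fix25_0

theorem fix26_0 : allR (fun i => bif Nat.blt i 1782 then Nat.beq (walk tb [5, 6, 5, 6, 5, 6, 5, 6] i) i else true) 11 0 = true := by decide +kernel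

theorem fix26 : fixesAll 1782 tb [5, 6, 5, 6, 5, 6, 5, 6] 11 = true :=
  fix26_0

theorem fix27_0 : allR (fun i => bif Nat.blt i 1782 then Nat.beq (walk tb [6, 6] i) i else true) 11 0 = true := by decide +kernel

theorem fix27 : fixesAll 1782 tb [6, 6] 11 = true :=
  fix27_0

theorem fix28_0 : allR (fun i => bif Nat.blt i 1782 then Nat.beq (walk tb [0, 3, 2, 3, 2, 3, 2, 3, 2] i) i else true) 11 0 = true := by decide +kernel

theorem fix28 : fixesAll 1782 tb [0, 3, 2, 3, 2, 3, 2, 3, 2] 11 = true :=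
  fix28_0

theorem fix29_0 : allR (fun i => bif Nat.blt i 1782 then Nat.beq (walk tb [0, 6, 5, 6, 5] i) i else true) 11 0 = true := by decide +kernel

theorem fix29 : fixesAll 1782 tb [0, 6, 5, 6, 5] 11 = true :=
  fix29_0

theorem fix30_0 : allR (fun i => bif Nat.blt i 1782 then Nat.beq (walk tb [0, 1, 2, 5, 0, 1, 2, 5, 0, 1, 2, 5, 0, 1, 2, 5, 0, 1, 2, 5] i) i else true) 11 0 = true := by decide +kernel

theorem fix30 : fixesAll 1782 tb [0, 1, 2, 5, 0, 1, 2, 5, 0, 1, 2, 5, 0, 1, 2, 5, 0, 1, 2, 5] 11 = true :=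
  fix30_0

theorem fix31_0 : allR (fun i => bif Nat.blt i 1782 then Nat.beq (walk tb [1, 5, 6, 1, 5, 6, 1, 5, 6, 1, 5, 6, 1, 5, 6] i) i else true) 11 0 = true := by decide +kernel

theorem fix31 : fixesAll 1782 tb [1, 5, 6, 1, 5, 6, 1, 5, 6, 1, 5, 6, 1, 5, 6] 11 = true :=
  fix31_0

theorem fix32_0 : allR (fun i => bif Nat.blt i 1782 then Nat.beq (walk tb [1, 2, 3, 2, 3, 1, 2, 3, 2, 3, 1, 2, 3, 2, 3, 1, 2, 3, 2, 3, 1, 2, 3, 2, 3, 4, 1, 2, 3, 2, 3, 1, 2, 3, 2, 3, 1, 2, 3, 2, 3, 1, 2, 3, 2, 3, 1, 2, 3, 2, 3, 4, 1, 2, 3, 2, 3, 1, 2, 3, 2, 3, 1, 2, 3, 2, 3, 1, 2, 3, 2, 3, 1, 2, 3, 2, 3, 4] i) i else true) 10 0 = true := by decide +kernel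

theorem fix32_1 : allR (fun i => bif Nat.blt i 1782 then Nat.beq (walk tb [1, 2, 3, 2, 3, 1, 2, 3, 2, 3, 1, 2, 3, 2, 3, 1, 2, 3, 2, 3, 1, 2, 3, 2, 3, 4, 1, 2, 3, 2, 3, 1, 2, 3, 2, 3, 1, 2, 3, 2, 3, 1, 2, 3, 2, 3, 1, 2, 3, 2, 3, 4, 1, 2, 3, 2, 3, 1, 2, 3, 2, 3, 1, 2, 3, 2, 3, 1, 2, 3, 2, 3, 1, 2, 3, 2, 3, 4] i) i else true) 10 1024 = true := by decide +kernel

theorem fix32 : fixesAll 1782 tb [1, 2, 3, 2, 3, 1, 2, 3, 2, 3, 1, 2, 3, 2, 3, 1, 2, 3, 2, 3, 1, 2, 3, 2, 3, 4, 1, 2, 3, 2, 3, 1, 2, 3, 2, 3, 1, 2, 3, 2, 3, 1, 2, 3, 2, 3, 1, 2, 3, 2, 3, 4, 1, 2, 3, 2, 3, 1, 2, 3, 2, 3, 1, 2, 3, 2, 3, 1, 2, 3, 2, 3, 1, 2, 3, 2, 3, 4] 11 = true :=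
  (allR_join (d := 10) (lo := 0) (hi := 1024) fix32_0 (by decide +kernel) fix32_1)

theorem valid_0 : allR (validEntry 1782 7 tb id) 11 0 = true := by decide +kernel

theorem valid : allR (validEntry 1782 7 tb id) 11 0 = true :=
  valid_0

theorem treeValid_0 : allR (treeOK 1782 7 tb parN parX) 11 0 = true := by decide +kernel

theorem treeValid : allR (treeOK 1782 7 tb parN parX) 11 0 = true :=
  treeValid_0

theorem fixes : CfsgLib.CosetEnum.Suz.words.all (fun w => fixesAll 1782 tb w 11) = true := by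
  simp only [CfsgLib.CosetEnum.Suz.words, List.all_cons, List.all_nil, Bool.and_self, fix0, fix1, fix2, fix3, fix4, fix5, fix6, fix7, fix8, fix9, fix10, fix11, fix12, fix13, fix14, fix15, fix16, fix17, fix18, fix19, fix20, fix21, fix22, fix23, fix24, fix25, fix26, fix27, fix28, fix29, fix30, fix31, fix32]

theorem fixesZero : sW.all (fun w => Nat.beq (walk tb w 0) 0) = true := by decide +kernel

noncomputable instance neZero : NeZero enum.n := ⟨by decide +kernel⟩

theorem action :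
    ∃ (φ : CfsgLib.CosetEnum.Suz.setup.Grp →* Equiv.Perm (Fin enum.n))
      (e : CfsgLib.CosetEnum.Suz.setup.Grp ⧸ enum.H ≃ Fin enum.n),
      (∀ (w : List ℕ), (∀ x ∈ w, x < CfsgLib.CosetEnum.Suz.setup.k) → ∀ i : Fin enum.n,
        ((φ (prodw CfsgLib.CosetEnum.Suz.setup.g w))⁻¹ i).val = walk enum.tb w i) ∧
      (∀ (y : CfsgLib.CosetEnum.Suz.setup.Grp) (q : CfsgLib.CosetEnum.Suz.setup.Grp ⧸ enum.H),
        e (y • q) = φ y (e q)) ∧
      e ((1 : CfsgLib.CosetEnum.Suz.setup.Grp) : CfsgLib.CosetEnum.Suz.setup.Grp ⧸ enum.H) = 0 :=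
  enum.exists_action 11 B58 (by decide +kernel) (by decide +kernel) good58 full valid treeValid fixes fixesZero

end CfsgLib.CosetEnum.SuzH
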